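import Cfsg.Agent.CosetEnum.Lower

/-! Generated coset enumeration certificate: M22 step 4. -/

set_option autoImplicit false
set_option maxRecDepth 100000

namespace CfsgLib.M22Cover.Step4

open CfsgLib.CosetEnum

noncomputable def epFLeaf (c : ℕ) : ℕ :=
  0x8c00002300008c30002000008c20002300008c10001600008000002000008020002000008010001100007010001c00007030001a00007000001a00007020001100006810001500006820001000005830000f00005430001300005800001500005820001300005420000f00004c10001300004c00000f00004430001000004400001000004010000b00003c10000800002430000700002c30000800002c00000900002c20000800002410000900002420000700002000000700001c100004000010200004000010000004000010300000000000200000000000100000000000000000000003f00000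

/-- table entries -/
noncomputable def epF (i : ℕ) : ℕ :=
  ((epFLeaf (i >>> 9)) >>> (48 * (i % 512))) % 281474976710656

noncomputable def nodeFLeaf (c : ℕ) : ℕ :=
  0x200001c00011000230001a000100001600015000130000b0000f0000900008000070000400000

/-- table entries -/
noncomputable def nodeF (i : ℕ) : ℕ :=
  ((nodeFLeaf (i >>> 10)) >>> (20 * (i % 1024))) % 1048576

noncomputable def TFLeaf (c : ℕ) : ℕ :=
  0xc0000f0000d0000f0000b0000d0000e0000b0000a0000e0000f0000a0000f0000c000090000c0000e0000a000080000e0000d0000b000060000d00005000070000c0000800007000050000b000090000800009000070000500003000030000a00004000090000800003000070000200002000040000600006000060000500002000040000400001000030000000001000020000100001000000000000000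

/-- table entries -/
noncomputable def TF (i : ℕ) : ℕ :=
  ((TFLeaf (i >>> 10)) >>> (20 * (i % 1024))) % 1048576

noncomputable def tfFLeaf (c : ℕ) : ℕ :=
  0x4a00004200004100004400003d00003900003e00003b00002500003800004000002300004b00004800004700004c00003c00003500003700003a00002400003400002100002200003300002d00004600002f00003100002b00003600002e00003000002c00002800002700001b00001700002000001900003200002a00001f00002600001d00001300001400001800001a00001600001e00001100001c00001200000f00001000000900000c00000e00000a000008000006000004000002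

/-- table entries -/
noncomputable def tfF (i : ℕ) : ℕ :=
  ((tfFLeaf (i >>> 10)) >>> (24 * (i % 1024))) % 16777216

noncomputable def parFLeaf (c : ℕ) : ℕ :=
  0x303000002c000000280000002410000020100000181000001430000014200000140000000c2000000c10000008200000080000000410000000300000000

/-- table entries -/
noncomputable def parF (i : ℕ) : ℕ :=
  ((parFLeaf (i >>> 10)) >>> (32 * (i % 1024))) % 4294967296

/-- the words: relators, then generators of the subgroup -/
def words : List (List ℕ) := [[0, 0], [1, 1], [2, 2], [3, 3], [0, 1, 0, 1, 0, 1, 0, 1, 0, 1], [0, 2, 0, 2], [0, 3, 0, 3], [1, 2, 1, 2, 1, 2], [1, 3, 1, 3, 1, 3, 1, 3], [2, 3, 2, 3], [0, 2, 1, 0, 2, 1, 0, 2, 1, 0, 2, 1, 0, 2, 1], [0, 3, 0, 1, 2, 0, 3, 0, 1, 2, 0, 3, 0, 1, 2], [1, 0, 3, 1, 0, 2, 1, 0, 3, 1, 0, 2, 1, 0, 3, 1, 0, 2], [3, 1, 0, 1, 2, 0, 3, 1, 0, 1, 2, 0, 3, 1, 0, 1, 2, 0], [1, 0, 1, 0, 1, 0, 1, 0, 1, 0], [2, 0, 2, 0], [3, 0, 3, 0], [2, 1, 2, 1, 2, 1], [3, 1, 3, 1, 3, 1, 3, 1], [3, 2, 3, 2], [1, 2, 0, 1, 2, 0, 1, 2, 0, 1, 2, 0, 1, 2, 0], [2, 1, 0, 3, 0, 2, 1,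 0, 3, 0, 2, 1, 0, 3, 0], [2, 0, 1, 3, 0, 1, 2, 0, 1, 3, 0, 1, 2, 0, 1, 3, 0, 1], [0, 2, 1, 0, 1, 3, 0, 2, 1, 0, 1, 3, 0, 2, 1, 0, 1, 3], [0], [1], [2]]

/-- the certificate -/
noncomputable def cert : CertData where
  L := 4
  n := 16
  iv := fun x => x
  words := words
  nr := 24
  ep := epF
  node := nodeF
  T := TF
  tf := tfF

/-- parents in the table -/
noncomputable def par : ℕ → ℕ := parF

end CfsgLib.M22Cover.Step4
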