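import Cfsg.Agent.M22Cover.Step4.Data

/-! Generated: checks of facts. -/

set_option autoImplicit false
set_option maxRecDepth 100000

namespace CfsgLib.M22Cover.Step4

open CfsgLib.CosetEnum

theorem facts0 : checkFacts epF (fun x => x) words 24 0 [0x1, 0x1900003, 0x1a00003, 0x1b00003, 0x0, 0x8000020000900000000040000700006, 0x8000060000900000000040000a00006, 0x0, 0x0, 0x0, 0x120000e0000c0000f0001300000000090000800008, 0x0, 0x12000110001700000000090000600006, 0xa0000800002000040000600002000090000a0000f0001300019000100000e0000c00003000040001600011, 0x110001b0001800003000090000700006, 0x0, 0x0, 0x0, 0xe0000a000080000400002000060000400002000090000f0001100017000210002300020000180001200003000070001700014, 0x0, 0x260001e000100000e0000a0000f000110001f000270000900013000050000c, 0x0, 0x0, 0x2a000270002d00000000150000600006, 0x28000260001e00017000180001c0000e0000a0000f00013000190001a0001f00027000280002d0002e00011000150001800014, 0x27000310002f00003000160000700006, 0x0, 0x2a0001e00017000210003500000000150000800008, 0x0, 0x340002300039000000001a0000600006, 0x340002500039000030001c0000a00006, 0x3400020000180001c000110001700021000230002400023000390003a0003d0003a000030001a0000c00011, 0x0, 0x40000390003e000380004100005000200000800008,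 0x4000022000200001800014000190002100023000410000000020000050000c, 0x0, 0x460002c000280002d0004700005000230000800008, 0x4000024000200001a0001f00033000470000700023000090000a, 0x460002e000370003b0003e0003a000360002f000470000000023000050000c] = true := by
  decide +kernel

theorem factsUpTo39 (h : FactsChecked cert.ep cert.iv cert.words cert.nr 0) :
    FactsChecked cert.ep cert.iv cert.words cert.nr 39 :=
  (FactsChecked.app _ 39 h facts0 rfl)

end CfsgLib.M22Cover.Step4
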